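import Cfsg.Agent.SylowTail.Main
import Cfsg.Agent.KnownSimple.Multiplier.Sylow

/-!
# From the certificate to the multiplier bound two
-/

set_option autoImplicit false

namespace Cfsg.Agent.SylowTail

open Cfsg.Agent.CosetEnum
open scoped commutatorElement

variable {G : Type} [Group G]

section Card

variable [Finite G] {D : Data} (hs : D.shapeOK = true) {a g : ℕ → G} (H : Holds D a g)

/-- The values of increasing words from `k` on. -/
def vals (D : Data) (a : ℕ → G) (k : ℕ) : Set G := {x | ∃ u, D.Norm k u ∧ evalWord a u = x}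

include hs H

omit [Finite G] in
theorem vals_eq_high (k : ℕ) (hk : k ≤ D.n) :
    vals D a k = (high D a (⊥ : Subgroup G) k : Set G) := by
  ext x
  constructor
  · rintro ⟨u, ⟨-, hu⟩, rfl⟩
    exact word_mem_high hu
  · intro hx
    obtain ⟨u, hu, c, hc, rfl⟩ := normal_form (X := a) (C := (⊥ : Subgroup G)) hs
      (fun c hc e => by rw [Subgroup.mem_bot.mp hc]; exact Commute.one_left e)
      (fun k r hr => by rw [Subgroup.mem_bot, inv_mul_eq_one, H.rels k r hr]) (D.n - k) k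
      (by omega) x hx
    exact ⟨u, hu, by rw [Subgroup.mem_bot.mp hc, mul_one]⟩

theorem card_vals : ∀ d k, D.n = k + d → (vals D a k).ncard = 2 ^ d
  | 0, k, hd => by
    have : vals D a k = {1} := by
      ext x
      simp only [Set.mem_singleton_iff]
      constructor
      · rintro ⟨u, ⟨-, hu⟩, rfl⟩
        cases u with
        | nil => rfl
        | cons b v =>
          have := hu b (by simp)
          omega
      · rintro rfl
        exact ⟨[], ⟨List.Pairwise.nil, by simp⟩, rfl⟩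
    rw [this, Set.ncard_singleton, pow_zero]
  | d + 1, k, hd => by
    have ih := card_vals d (k + 1) (by omega)
    have hk1 := vals_eq_high hs H (k + 1) (by omega)
    have hsplit : vals D a k = vals D a (k + 1) ∪ (fun x => a k * x) '' vals D a (k + 1) := by
      ext x
      constructor
      · rintro ⟨u, ⟨hu1, hu2⟩, rfl⟩
        cases u with
        | nil => exact Or.inl ⟨[], ⟨hu1, by simp⟩, rfl⟩
        | cons b v =>
          rw [List.pairwise_cons] at hu1
          have hb := hu2 b (by simp)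
          rcases Nat.eq_or_lt_of_le hb.1 with rfl | hlt
          · exact Or.inr ⟨evalWord a v, ⟨v, ⟨hu1.2, fun c hc =>
              ⟨hu1.1 c hc, (hu2 c (List.mem_cons_of_mem _ hc)).2⟩⟩, rfl⟩, rfl⟩
          · refine Or.inl ⟨b :: v, ⟨List.pairwise_cons.mpr hu1, fun c hc => ?_⟩, rfl⟩
            rcases List.mem_cons.mp hc with rfl | hc'
            · exact ⟨hlt, hb.2⟩
            · exact ⟨by have := hu1.1 c hc'; omega, (hu2 c hc).2⟩
      · rintro (⟨u, ⟨hu1, hu2⟩, rfl⟩ | ⟨_, ⟨u, ⟨hu1, hu2⟩, rfl⟩, rfl⟩)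
        · exact ⟨u, ⟨hu1, fun c hc => ⟨by have := (hu2 c hc).1; omega, (hu2 c hc).2⟩⟩, rfl⟩
        · refine ⟨k :: u, ⟨List.pairwise_cons.mpr ⟨fun c hc => (hu2 c hc).1, hu1⟩, ?_⟩, rfl⟩
          intro c hc
          rcases List.mem_cons.mp hc with rfl | hc
          · exact ⟨le_rfl, by omega⟩
          · exact ⟨by have := (hu2 c hc).1; omega, (hu2 c hc).2⟩
    have hdisj : Disjoint (vals D a (k + 1)) ((fun x => a k * x) '' vals D a (k + 1)) := by
      rw [Set.disjoint_right]
      rintro _ ⟨x, hx, rfl⟩ hax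
      rw [hk1, SetLike.mem_coe] at hx hax
      -- the generator lies among the later ones, hence so does its inverse
      have hxinv : x⁻¹ ∈ high D a (⊥ : Subgroup G) (k + 1) := by
        have hpos := orderOf_pos x
        have : x⁻¹ = x ^ (orderOf x - 1) :=
          inv_eq_of_mul_eq_one_right (by rw [← pow_succ', Nat.sub_add_cancel hpos, pow_orderOf_eq_one])
        rw [this]
        exact pow_mem hx _
      have hak : a k ∈ high D a (⊥ : Subgroup G) (k + 1) := by simpa using mul_mem hax hxinv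
      have hpow : a k ^ (orderOf (a k) - 1) ∈ high D a (⊥ : Subgroup G) (k + 1) := pow_mem hak _
      rw [← SetLike.mem_coe, ← hk1] at hpow
      obtain ⟨u, ⟨hu1, hu2⟩, hu3⟩ := hpow
      have h0 := H.indep (k :: u) ⟨List.pairwise_cons.mpr ⟨fun c hc => (hu2 c hc).1, hu1⟩,
        fun c hc => ⟨Nat.zero_le _, by
          rcases List.mem_cons.mp hc with rfl | hc
          · omega
          · exact (hu2 c hc).2⟩⟩
        (by
          show a k * evalWord a u = 1
          rw [hu3, ← pow_succ', Nat.sub_add_cancel (orderOf_pos (a k)), pow_orderOf_eq_one])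
      simp at h0
    rw [hsplit, Set.ncard_union_eq hdisj, Set.ncard_image_of_injective _ (mul_right_injective _), ih,
      pow_succ]
    ring

theorem card_sub : Nat.card (sub D a) = 2 ^ D.n := by
  have h : (sub D a : Set G) = vals D a 0 := by
    rw [vals_eq_high hs H 0 (Nat.zero_le _)]
    refine Set.Subset.antisymm (fun x hx => ?_) ?_
    · refine closure_le_high (X := a) (C := (⊥ : Subgroup G)) hs
        (fun k r hr => by rw [Subgroup.mem_bot, inv_mul_eq_one, H.rels k r hr]) x ?_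
      exact Subgroup.closure_mono Set.subset_union_left hx
    · intro x hx
      exact (Submonoid.closure_le (S := (sub D a).toSubmonoid)).mpr (fun y hy => by
        rcases hy with ⟨j, -, hj, rfl⟩ | hy
        · exact Subgroup.subset_closure ⟨j, hj, rfl⟩
        · rw [SetLike.mem_coe, Subgroup.mem_bot] at hy
          subst hy
          exact one_mem _) hx
  rw [← SetLike.coe_sort_coe, Nat.card_coe_set_eq, h, card_vals hs H D.n 0 (by omega)]

end Card

/-- The kernel of a stem extension has at most two elements. -/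
theorem exists_surjective_two [Finite G] {D : Data} (hok : D.OK) {a g : ℕ → G}
    (H : Holds D a g) (hidx : ¬ 2 ∣ (sub D a).index) {Γ : Type} [Group Γ] [Finite Γ] (σ : Γ →* G)
    (hσ : Cfsg.IsStemExtension σ)
    (hodd : ∀ ℓ : ℕ, ℓ.Prime → ℓ ≠ 2 →
      ∃ S : Subgroup G, ¬ ℓ ∣ S.index ∧ σ.ker ⊓ ⁅S.comap σ, S.comap σ⁆ = ⊥) :
    ∃ π : Multiplicative (ZMod 2) →* σ.ker, Function.Surjective π := by
  have hcen : ∀ {k}, k ∈ σ.ker → ∀ w, Commute k w :=
    fun hk w => (Subgroup.mem_center_iff.mp (hσ.2.1 hk) w).symm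
  have hnoodd : ∀ z ∈ σ.ker, ∀ ℓ : ℕ, ℓ.Prime → ℓ ≠ 2 → orderOf z ≠ ℓ := by
    intro z hz ℓ hℓ h2 hord
    obtain ⟨S, hS, hSH⟩ := hodd ℓ hℓ h2
    have : (S.comap σ).FiniteIndex := inferInstance
    have hmem := Cfsg.Agent.Schur.pow_index_mem_commutator (S.comap σ) (hσ.2.1 hz) (hσ.2.2 hz)
    rw [Subgroup.map_subtype_commutator, Subgroup.index_comap_of_surjective S hσ.1] at hmem
    have : z ^ S.index ∈ σ.ker ⊓ ⁅S.comap σ, S.comap σ⁆ := ⟨pow_mem hz _, hmem⟩
    rw [hSH, Subgroup.mem_bot] at this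
    exact hS (hord ▸ orderOf_dvd_of_pow_eq_one this)
  let N : Subgroup Γ :=
    { carrier := {z | ∃ k ∈ σ.ker, k ^ 4 = z}
      one_mem' := ⟨1, one_mem _, one_pow 4⟩
      mul_mem' := by
        rintro _ _ ⟨k, hk, rfl⟩ ⟨j, hj, rfl⟩
        exact ⟨k * j, mul_mem hk hj, (hcen hj k).symm.mul_pow 4⟩
      inv_mem' := by
        rintro _ ⟨k, hk, rfl⟩
        exact ⟨k⁻¹, inv_mem hk, inv_pow k 4⟩ }
  have hNk : N ≤ σ.ker := by rintro _ ⟨k, hk, rfl⟩; exact pow_mem hk 4
  haveI : N.Normal := ⟨fun z hz w => by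
    rw [← (hcen (hNk hz) w).eq, mul_assoc, mul_inv_cancel, mul_one]; exact hz⟩
  let σ' : Γ ⧸ N →* G := QuotientGroup.lift N σ hNk
  have hmk : ∀ x : Γ, σ' (QuotientGroup.mk' N x) = σ x := fun x => rfl
  have hsurj' : Function.Surjective σ' := fun x => by
    obtain ⟨y, hy⟩ := hσ.1 x
    exact ⟨QuotientGroup.mk' N y, hy⟩
  have hc' : σ'.ker ≤ Subgroup.center (Γ ⧸ N) := by
    intro q hq
    obtain ⟨x, rfl⟩ := QuotientGroup.mk'_surjective N q
    rw [MonoidHom.mem_ker, hmk] at hq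
    rw [Subgroup.mem_center_iff]
    intro r
    obtain ⟨y, rfl⟩ := QuotientGroup.mk'_surjective N r
    rw [← map_mul, ← map_mul, (hcen hq y).eq]
  have h4' : ∀ q ∈ σ'.ker, q ^ 4 = 1 := by
    intro q hq
    obtain ⟨x, rfl⟩ := QuotientGroup.mk'_surjective N q
    rw [← map_pow, QuotientGroup.mk'_apply, QuotientGroup.eq_one_iff]
    exact ⟨x, hq, rfl⟩
  obtain ⟨y, hy, hy2, hle⟩ := Data.ker_inf hok H σ' hsurj' hc' h4'
  have hodd2 : Odd (sub D a).index := Nat.not_even_iff_odd.mp fun h => hidx (even_iff_two_dvd.mp h)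
  have hall : ∀ q ∈ σ'.ker, q = 1 ∨ q = y := by
    intro q hq
    have hstem : σ'.ker ≤ commutator (Γ ⧸ N) := by
      intro r hr
      obtain ⟨x, rfl⟩ := QuotientGroup.mk'_surjective N r
      rw [MonoidHom.mem_ker, hmk] at hr
      have := Subgroup.mem_map_of_mem (QuotientGroup.mk' N) (hσ.2.2 hr)
      rw [commutator_def, Subgroup.map_commutator] at this
      exact Subgroup.commutator_mono le_top le_top this
    have : ((sub D a).comap σ').FiniteIndex := inferInstance
    have hmem := Cfsg.Agent.Schur.pow_index_mem_commutator ((sub D a).comap σ') (hc' hq) (hstem hq)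
    rw [Subgroup.map_subtype_commutator, Subgroup.index_comap_of_surjective _ hsurj'] at hmem
    obtain ⟨m, hm⟩ := hle ⟨pow_mem hq _, hmem⟩
    change y ^ m = q ^ (sub D a).index at hm
    have hsq : q = (q ^ (sub D a).index) ^ (sub D a).index := by
      obtain ⟨e, he⟩ := hodd2
      obtain ⟨f, hf⟩ := Nat.even_mul_succ_self e
      rw [← pow_mul, show (sub D a).index * (sub D a).index = 4 * (2 * f) + 1 by
        rw [he]; nlinarith [hf], pow_succ, pow_mul, h4' q hq, one_pow, one_mul]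
    have hy2' : y ^ (2 : ℤ) = 1 := by rw [show (2 : ℤ) = ((2 : ℕ) : ℤ) from rfl, zpow_natCast, hy2]
    rw [hsq, ← hm, ← zpow_natCast, ← zpow_mul]
    rcases Int.emod_two_eq_zero_or_one (m * (sub D a).index) with h | h
    · left
      rw [← Int.mul_ediv_add_emod (m * (sub D a).index) 2, h, zpow_add, zpow_mul, hy2', one_zpow,
        zpow_zero, one_mul]
    · right
      rw [← Int.mul_ediv_add_emod (m * (sub D a).index) 2, h, zpow_add, zpow_mul, hy2', one_zpow,
        zpow_one, one_mul]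
  -- squares vanish
  have hsquare : ∀ k ∈ σ.ker, k ^ 2 = 1 := by
    have hN : ∀ k ∈ σ.ker, ∃ j ∈ σ.ker, (j ^ 2) ^ 2 = k ^ 2 := by
      intro k hk
      have h2 : (QuotientGroup.mk' N k) ^ 2 = 1 := by
        rcases hall _ (show QuotientGroup.mk' N k ∈ σ'.ker from hk) with h | h
        · rw [h, one_pow]
        · rw [h, hy2]
      rw [← map_pow, QuotientGroup.mk'_apply, QuotientGroup.eq_one_iff] at h2
      obtain ⟨j, hj, hjk⟩ := h2
      exact ⟨j, hj, by rw [← pow_mul]; exact hjk⟩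
    let K2 : Set Γ := {u | ∃ k ∈ σ.ker, k ^ 2 = u}
    let sq : K2 → K2 := fun u => ⟨u.1 ^ 2, by
      obtain ⟨k, hk, h⟩ := u.2
      exact ⟨k ^ 2, pow_mem hk 2, by rw [h]⟩⟩
    have hinj : Function.Injective sq := Finite.injective_iff_surjective.mpr fun u => by
      obtain ⟨k, hk, h⟩ := u.2
      obtain ⟨j, hj, hjk⟩ := hN k hk
      exact ⟨⟨j ^ 2, j, hj, rfl⟩, Subtype.ext (hjk.trans h)⟩
    intro k hk
    by_contra hne
    obtain ⟨ℓ, hℓ, hdvd⟩ := Nat.exists_prime_and_dvd (fun e => hne (orderOf_eq_one_iff.mp e))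
    set w := (k ^ 2) ^ (orderOf (k ^ 2) / ℓ) with hw
    have hord : orderOf w = ℓ := orderOf_pow_orderOf_div (orderOf_pos (k ^ 2)).ne' hdvd
    have hwk : w ∈ σ.ker := pow_mem (pow_mem hk 2) _
    rcases eq_or_ne ℓ 2 with rfl | h2
    · have hwK : w ∈ K2 := ⟨k ^ (orderOf (k ^ 2) / 2), pow_mem hk _, by
        rw [hw, ← pow_mul, ← pow_mul, mul_comm]⟩
      have h1K : (1 : Γ) ∈ K2 := ⟨1, one_mem _, one_pow 2⟩
      have : (⟨w, hwK⟩ : K2) = ⟨1, h1K⟩ := hinj (Subtype.ext (by
        show w ^ 2 = 1 ^ 2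
        rw [one_pow, ← hord, pow_orderOf_eq_one]))
      have hw1 : w = 1 := congrArg Subtype.val this
      rw [hw1, orderOf_one] at hord
      exact absurd hord (by norm_num)
    · exact hnoodd w hwk ℓ hℓ h2 hord
  have hinjN : ∀ k ∈ σ.ker, QuotientGroup.mk' N k = 1 → k = 1 := by
    intro k hk h
    rw [QuotientGroup.mk'_apply, QuotientGroup.eq_one_iff] at h
    obtain ⟨j, hj, rfl⟩ := h
    rw [show j ^ 4 = (j ^ 2) ^ 2 by rw [← pow_mul], hsquare j hj, one_pow]
  obtain ⟨k0, hk0⟩ : ∃ k0 : σ.ker, ∀ k : σ.ker, k = 1 ∨ k = k0 := by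
    by_cases hex : ∃ k0 : σ.ker, k0 ≠ 1
    · obtain ⟨k0, hk0⟩ := hex
      refine ⟨k0, fun k => or_iff_not_imp_left.mpr fun hk => ?_⟩
      have hy1 : ∀ q : σ.ker, q ≠ 1 → QuotientGroup.mk' N q.1 = y := fun q hq =>
        (hall _ (show QuotientGroup.mk' N q.1 ∈ σ'.ker from q.2)).resolve_left
          fun h => hq (Subtype.ext (hinjN q.1 q.2 h))
      refine Subtype.ext (inv_mul_eq_one.mp (hinjN _ (mul_mem (inv_mem k.2) k0.2) ?_))
      rw [map_mul, map_inv, hy1 k hk, hy1 k0 hk0, inv_mul_cancel]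
    · exact ⟨1, fun k => Or.inl (not_not.mp fun h => hex ⟨k, h⟩)⟩
  have hk2 : k0 ^ 2 = 1 := Subtype.ext (hsquare k0.1 k0.2)
  refine ⟨AddMonoidHom.toMultiplicativeLeft (ZMod.lift 2
    ⟨zmultiplesHom (Additive σ.ker) (Additive.ofMul k0), by
      show (2 : ℤ) • Additive.ofMul k0 = 0
      rw [← ofMul_zpow, show (2 : ℤ) = ((2 : ℕ) : ℤ) from rfl, zpow_natCast, hk2]
      rfl⟩), fun k => ?_⟩
  rcases hk0 k with rfl | rfl
  · exact ⟨1, map_one _⟩
  · refine ⟨Multiplicative.ofAdd ((1 : ℤ) : ZMod 2), ?_⟩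
    show Additive.toMul (ZMod.lift 2 _ ((1 : ℤ) : ZMod 2)) = k
    rw [ZMod.lift_coe]
    simp

end Cfsg.Agent.SylowTail
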