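import Cfsg.Agent.Lib.CosetEnum.Bound
import Mathlib

/-!
# Tail vectors of central extensions of polycyclic presentations

A relation is a pair of positive words `(lhs, rhs)` with equal values; in a central extension
the two values differ by a tail. Collection turns equal words into linear equations in the tails.
-/

set_option autoImplicit false

namespace Cfsg.Agent.SylowTail

open Cfsg.Agent.CosetEnum

/-- Add one at a position, modulo four. -/
def bump : ℕ → List ℕ → List ℕ
  | 0, [] => [1]
  | 0, a :: t => (a + 1) % 4 :: t
  | k + 1, [] => 0 :: bump k []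
  | k + 1, a :: t => a :: bump k t

/-- Add two vectors modulo four. -/
def addv : List ℕ → List ℕ → List ℕ
  | [], b => b
  | a, [] => a
  | a :: s, b :: t => (a + b) % 4 :: addv s t

/-- Scale a vector modulo four. -/
def smul (c : ℕ) (a : List ℕ) : List ℕ := a.map fun x => c * x % 4

/-- The first pair of adjacent entries out of order, from the left. -/
def descL : List ℕ → Option (List ℕ × ℕ × ℕ × List ℕ)
  | [] => none
  | [_] => none
  | a :: b :: w => if b ≤ a then some ([], a, b, w)
      else (descL (b :: w)).map fun r => (a :: r.1, r.2)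

/-- The first pair of adjacent entries out of order, from the right. -/
def descR : List ℕ → Option (List ℕ × ℕ × ℕ × List ℕ)
  | [] => none
  | [_] => none
  | a :: b :: w => match descR (b :: w) with
    | some r => some (a :: r.1, r.2)
    | none => if b ≤ a then some ([], a, b, w) else none

theorem descL_eq : ∀ {w p q : List ℕ} {a b : ℕ},
    descL w = some (p, a, b, q) → w = p ++ a :: b :: q
  | [], _, _, _, _, h => by simp [descL] at h
  | [_], _, _, _, _, h => by simp [descL] at h
  | x :: y :: w, p, q, a, b, h => by
    simp only [descL] at h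
    split at h
    · simp only [Option.some.injEq, Prod.mk.injEq] at h
      obtain ⟨rfl, rfl, rfl, rfl⟩ := h
      rfl
    · simp only [Option.map_eq_some_iff] at h
      obtain ⟨⟨p', a', b', q'⟩, h1, h2⟩ := h
      simp only [Prod.mk.injEq] at h2
      obtain ⟨rfl, rfl, rfl, rfl⟩ := h2
      rw [descL_eq h1]
      rfl

theorem descR_eq : ∀ {w p q : List ℕ} {a b : ℕ},
    descR w = some (p, a, b, q) → w = p ++ a :: b :: q
  | [], _, _, _, _, h => by simp [descR] at h
  | [_], _, _, _, _, h => by simp [descR] at h
  | x :: y :: w, p, q, a, b, h => by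
    simp only [descR] at h
    split at h
    · rename_i r hr
      obtain ⟨p', a', b', q'⟩ := r
      simp only [Option.some.injEq, Prod.mk.injEq] at h
      obtain ⟨rfl, rfl, rfl, rfl⟩ := h
      rw [descR_eq hr]
      rfl
    · split at h
      · simp only [Option.some.injEq, Prod.mk.injEq] at h
        obtain ⟨rfl, rfl, rfl, rfl⟩ := h
        rfl
      · simp at h

/-- Collection, from the left (`side = true`) or from the right, counting the relations used. -/
def collect (rels : List (List ℕ × List ℕ)) (rix : ℕ → ℕ → ℕ) (side : Bool) :
    ℕ → List ℕ → List ℕ → Option (List ℕ × List ℕ)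
  | 0, _, _ => none
  | fuel + 1, w, t =>
    match (if side then descL w else descR w) with
    | none => some (w, t)
    | some (p, a, b, q) =>
      match rels[rix a b]? with
      | none => none
      | some r => if r.1 = [a, b] then collect rels rix side fuel (p ++ r.2 ++ q) (bump (rix a b) t)
          else none

universe u

variable {K : Type u} [CommGroup K]

/-- The value of a vector. -/
def dot : List ℕ → List K → K
  | [], _ => 1
  | _, [] => 1
  | a :: s, z :: Z => z ^ a * dot s Z

theorem pow_mod4 {z : K} (h : z ^ 4 = 1) (a : ℕ) : z ^ (a % 4) = z ^ a := by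
  conv_rhs => rw [← Nat.mod_add_div a 4, pow_add, pow_mul, h, one_pow, mul_one]

variable (h4 : ∀ z : K, z ^ 4 = 1)
include h4

theorem dot_bump : ∀ (k : ℕ) (t : List ℕ) (Z : List K),
    dot (bump k t) Z = dot t Z * Z.getD k 1
  | k, t, [] => by cases k <;> cases t <;> simp [bump, dot]
  | 0, [], z :: Z => by simp [bump, dot]
  | 0, a :: t, z :: Z => by
    simp only [bump, dot, List.getD_cons_zero, pow_mod4 (h4 z), pow_succ]
    exact mul_right_comm _ _ _
  | k + 1, [], z :: Z => by simp [bump, dot, dot_bump k [] Z]
  | k + 1, a :: t, z :: Z => by simp [bump, dot, dot_bump k t Z, mul_assoc]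

theorem dot_addv : ∀ (s t : List ℕ) (Z : List K), dot (addv s t) Z = dot s Z * dot t Z
  | [], t, Z => by simp [addv, dot]
  | a :: s, [], Z => by simp [addv, dot]
  | a :: s, b :: t, [] => by simp [addv, dot]
  | a :: s, b :: t, z :: Z => by
    simp only [addv, dot, pow_mod4 (h4 z), pow_add, dot_addv s t Z]
    exact mul_mul_mul_comm _ _ _ _

theorem dot_smul (c : ℕ) : ∀ (s : List ℕ) (Z : List K), dot (smul c s) Z = dot s Z ^ c
  | [], Z => by simp [smul, dot]
  | a :: s, [] => by simp [smul, dot]
  | a :: s, z :: Z => by
    simp only [smul, List.map_cons, dot, pow_mod4 (h4 z), mul_pow, ← pow_mul, mul_comm a c]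
    exact congrArg _ (dot_smul c s Z)

omit h4

variable {Γ : Type} [Group Γ]

theorem evalWord_pair (x : ℕ → Γ) (a b : ℕ) : evalWord x [a, b] = x a * x b := by
  simp [evalWord]

/-- Soundness of collection. -/
theorem collect_sound {K : Type} [CommGroup K] (ι : K →* Γ) (hι : ∀ k y, Commute (ι k) y)
    (x : ℕ → Γ) (rels : List (List ℕ × List ℕ)) (rix : ℕ → ℕ → ℕ) (side : Bool)
    (Z : List K) (h4 : ∀ z : K, z ^ 4 = 1)
    (hZ : ∀ (k : ℕ) (r : List ℕ × List ℕ), rels[k]? = some r →
      evalWord x r.1 = evalWord x r.2 * ι (Z.getD k 1)) :
    ∀ (fuel : ℕ) (w t w' t' : List ℕ), collect rels rix side fuel w t = some (w', t') →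
      evalWord x w * ι (dot t Z) = evalWord x w' * ι (dot t' Z)
  | 0, _, _, _, _, h => by simp [collect] at h
  | fuel + 1, w, t, w', t', h => by
    simp only [collect] at h
    split at h
    · simp only [Option.some.injEq, Prod.mk.injEq] at h
      obtain ⟨rfl, rfl⟩ := h
      rfl
    · rename_i p a b q hd
      split at h
      · simp at h
      · rename_i r hr
        split at h
        · rename_i hab
          have hw : w = p ++ a :: b :: q := by
            cases side
            · exact descR_eq hd
            · exact descL_eq hd
          rw [← collect_sound ι hι x rels rix side Z h4 hZ fuel _ _ _ _ h, hw, dot_bump h4,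
            show a :: b :: q = r.1 ++ q by rw [hab]; rfl, evalWord_append, evalWord_append,
            evalWord_append, evalWord_append, hZ _ r hr, map_mul]
          simp only [mul_assoc]
          rw [(hι (Z.getD (rix a b) 1) (evalWord x q * ι (dot t Z))).eq]
          simp only [mul_assoc]
        · simp at h

end Cfsg.Agent.SylowTail
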