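import Cfsg.Agent.SylowTail.Basic

/-!
# A certificate bounding the multiplier on a Sylow 2-subgroup

For a polycyclic presentation of a subgroup `S` and a central extension with kernel of exponent
four, the certificate shows that the kernel meets the derived subgroup of the preimage of `S` in
at most two elements. The equations come from collection and from fusion.
-/

set_option autoImplicit false

namespace Cfsg.Agent.SylowTail

open Cfsg.Agent.CosetEnum
open scoped commutatorElement

/-- An equation: either one word collected twice, or two equal words in fusion pairs. -/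
inductive Eqn where
  | cons (w : List ℕ)
  | fus (W1 W2 : List ℕ)

/-- The data of a certificate. -/
structure Data where
  /-- the number of generators -/
  n : ℕ
  /-- the relations -/
  rels : List (List ℕ × List ℕ)
  /-- the index of the relation with a given left side -/
  rix : ℕ → ℕ → ℕ
  /-- fusion pairs: the fusing element, a word and its image -/
  pairs : List (ℕ × List ℕ × List ℕ)
  /-- the equations -/
  eqns : List Eqn
  /-- the generator of the bound -/
  yv : List ℕ
  /-- the vectors of the free part -/
  wv : List (List ℕ)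
  /-- the coefficient of each tail at the generator -/
  mv : List ℕ
  /-- the coefficient of each tail at the free part -/
  umat : List (List ℤ)
  /-- the matrix inverting the exponent sums up to `den` -/
  jmat : List (List ℤ)
  /-- the denominator -/
  den : ℤ
  /-- the combination proving that the generator has order two -/
  ycomb : List (ℕ × ℕ)
  /-- the combination for each tail -/
  zcomb : List (List (ℕ × ℕ))
  /-- fuel for collection -/
  fuel : ℕ

namespace Data

variable (D : Data)

/-- The number of relations. -/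
def nr : ℕ := D.rels.length

/-- The number of unknowns. -/
def nv : ℕ := D.nr + D.pairs.length

/-- A fusion pair. -/
def pair (k : ℕ) : ℕ × List ℕ × List ℕ := D.pairs.getD k (0, [], [])

/-- The vector counting the pairs used. -/
def cnt (W : List ℕ) : List ℕ := W.foldr (fun k t => bump (D.nr + k) t) []

/-- Collect a word. -/
def col (side : Bool) (w : List ℕ) : Option (List ℕ × List ℕ) :=
  collect D.rels D.rix side D.fuel w []

/-- The vector of an equation; zero if the words do not collect alike. -/
def eqVec : Eqn → List ℕ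
  | .cons w => match D.col true w, D.col false w with
    | some (e, t), some (f, u) => if e = f then addv t (smul 3 u) else []
    | _, _ => []
  | .fus W1 W2 =>
    if (W1 ++ W2).all (fun k => Nat.blt k D.pairs.length &&
        (D.pair k).1 == (D.pair ((W1 ++ W2).headD 0)).1) then
      match D.col true (W1.flatMap fun k => (D.pair k).2.1),
          D.col true (W2.flatMap fun k => (D.pair k).2.1),
          D.col true (W1.flatMap fun k => (D.pair k).2.2),
          D.col true (W2.flatMap fun k => (D.pair k).2.2) with
      | some (e1, t1), some (e2, t2), some (f1, s1), some (f2, s2) =>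
        if e1 = e2 && f1 = f2 then
          addv (addv (addv s1 (D.cnt W1)) (smul 3 t1)) (smul 3 (addv (addv s2 (D.cnt W2)) (smul 3 t2)))
        else []
      | _, _, _, _ => []
    else []

/-- A combination of the equations. -/
def comb (vs : List (List ℕ)) (c : List (ℕ × ℕ)) : List ℕ :=
  c.foldr (fun p t => addv (smul p.2 (vs.getD p.1 [])) t) []

/-- The free part of the expression of a tail. -/
def freePart (r : ℕ) : List ℕ :=
  (List.range D.n).foldr
    (fun l t => addv (smul (((D.umat.getD r []).getD l 0) % 4).toNat (D.wv.getD l [])) t) []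

/-- A vector is zero modulo four. -/
def isZero (v : List ℕ) : Bool := v.all fun x => x % 4 == 0

/-- The unit vector. -/
def unit (r : ℕ) : List ℕ := bump r []

/-- The check that the generator has order at most two. -/
def yOK (vs : List (List ℕ)) : Bool :=
  isZero (addv (smul 2 D.yv) (smul 3 (comb vs D.ycomb)))

/-- The check of one tail. -/
def zOK (vs : List (List ℕ)) (r : ℕ) : Bool :=
  isZero (addv (addv (unit r) (smul 3 (addv (smul (D.mv.getD r 0) D.yv) (D.freePart r))))
    (smul 3 (comb vs (D.zcomb.getD r []))))

/-- The exponent sum of a relation. -/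
def expSum (r q : ℕ) : ℤ :=
  ((D.rels.getD r ([], [])).1.count q : ℤ) - ((D.rels.getD r ([], [])).2.count q : ℤ)

/-- The exponent sums against the matrix. -/
def jOK (r : ℕ) : Bool :=
  (List.range D.n).all fun l =>
    decide (((List.range D.n).map fun q => D.expSum r q * (D.jmat.getD q []).getD l 0).sum
      = D.den * (D.umat.getD r []).getD l 0)

/-- The shape of the relations. -/
def shapeOK : Bool :=
  (List.range D.n).all fun i => (List.range D.n).all fun j =>
    if j < i then true else
      match D.rels[D.rix j i]? with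
      | none => false
      | some r => r.1 == [j, i] &&
          (if i = j then r.2.all fun b => Nat.blt i b && Nat.blt b D.n
            else match r.2 with
              | [] => false
              | a :: w => a == i && w.all fun b => Nat.blt i b && Nat.blt b D.n)

/-- All checks. -/
def OK : Prop :=
  D.shapeOK = true ∧ D.den ≠ 0 ∧ D.yOK (D.eqns.map D.eqVec) = true ∧
    (∀ r < D.nr, D.zOK (D.eqns.map D.eqVec) r = true) ∧ ∀ r < D.nr, D.jOK r = true

/-- An increasing word in the generators from `k` on. -/
def Norm (k : ℕ) (u : List ℕ) : Prop := u.Pairwise (· < ·) ∧ ∀ b ∈ u, k ≤ b ∧ b < D.n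

theorem shape {D : Data} (h : D.shapeOK = true) {i : ℕ} (hi : i < D.n) :
    (∃ w, D.rels[D.rix i i]? = some ([i, i], w) ∧ ∀ b ∈ w, i < b ∧ b < D.n) ∧
      ∀ j, i < j → j < D.n →
        ∃ w, D.rels[D.rix j i]? = some ([j, i], i :: w) ∧ ∀ b ∈ w, i < b ∧ b < D.n := by
  simp only [shapeOK, List.all_eq_true, List.mem_range] at h
  constructor
  · have h1 := h i hi i hi
    rw [if_neg (lt_irrefl i)] at h1
    split at h1
    · simp at h1
    · rename_i r hr
      simp only [if_true, Bool.and_eq_true, beq_iff_eq, List.all_eq_true, Nat.blt_eq] at h1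
      refine ⟨r.2, ?_, h1.2⟩
      rw [hr, ← h1.1]
  · intro j hij hj
    have h1 := h i hi j hj
    rw [if_neg (by omega)] at h1
    split at h1
    · simp at h1
    · rename_i r hr
      simp only [if_neg hij.ne, Bool.and_eq_true, beq_iff_eq] at h1
      obtain ⟨h2, h3⟩ := h1
      split at h3
      · simp at h3
      · rename_i a w hw
        simp only [Bool.and_eq_true, beq_iff_eq, List.all_eq_true, Nat.blt_eq] at h3
        refine ⟨w, ?_, h3.2⟩
        rw [hr, ← h2, ← h3.1, ← hw]

end Data

section Monoid

variable {E : Type} [Group E] (D : Data) (X : ℕ → E) (C : Subgroup E)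

/-- The monoid generated by the later generators and a central subgroup. -/
def high (k : ℕ) : Submonoid E :=
  Submonoid.closure ({e | ∃ j, k ≤ j ∧ j < D.n ∧ e = X j} ∪ (C : Set E))

variable {D X C}

theorem gen_mem_high {k j : ℕ} (h1 : k ≤ j) (h2 : j < D.n) : X j ∈ high D X C k :=
  Submonoid.subset_closure (Or.inl ⟨j, h1, h2, rfl⟩)

theorem cen_mem_high {k : ℕ} {c : E} (h : c ∈ C) : c ∈ high D X C k :=
  Submonoid.subset_closure (Or.inr h)

theorem word_mem_high {k : ℕ} : ∀ {w : List ℕ}, (∀ b ∈ w, k ≤ b ∧ b < D.n) →
    evalWord X w ∈ high D X C k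
  | [], _ => one_mem _
  | b :: w, h => mul_mem (gen_mem_high (h b (by simp)).1 (h b (by simp)).2)
      (word_mem_high fun a ha => h a (List.mem_cons_of_mem _ ha))

variable (hs : D.shapeOK = true) (hC : ∀ c ∈ C, ∀ e, Commute c e)
  (hrel : ∀ (k : ℕ) (r : List ℕ × List ℕ), D.rels[k]? = some r →
    (evalWord X r.2)⁻¹ * evalWord X r.1 ∈ C)

include hs hC hrel

theorem past {k : ℕ} (hk : k < D.n) {m : E} (hm : m ∈ high D X C (k + 1)) :
    ∃ m' ∈ high D X C (k + 1), m * X k = X k * m' := by
  induction hm using Submonoid.closure_induction with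
  | mem e he =>
    rcases he with ⟨j, hkj, hj, rfl⟩ | he
    · obtain ⟨w, hw, hb⟩ := (Data.shape hs hk).2 j hkj hj
      set c := (evalWord X (k :: w))⁻¹ * evalWord X [j, k] with hc
      refine ⟨evalWord X w * c, mul_mem (word_mem_high fun b hb' => hb b hb')
        (cen_mem_high (hrel _ _ hw)), ?_⟩
      rw [hc]
      simp [evalWord, mul_assoc]
    · exact ⟨e, cen_mem_high he, (hC e he _).eq⟩
  | one => exact ⟨1, one_mem _, by simp⟩
  | mul a b _ _ iha ihb =>
    obtain ⟨a', ha', ea⟩ := iha
    obtain ⟨b', hb', eb⟩ := ihb
    exact ⟨a' * b', mul_mem ha' hb', by rw [mul_assoc, eb, ← mul_assoc, ea, mul_assoc]⟩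

theorem split_high {k : ℕ} (hk : k < D.n) {e : E} (he : e ∈ high D X C k) :
    e ∈ high D X C (k + 1) ∨ ∃ m ∈ high D X C (k + 1), e = X k * m := by
  induction he using Submonoid.closure_induction with
  | mem a ha =>
    rcases ha with ⟨j, hkj, hj, rfl⟩ | ha
    · rcases Nat.eq_or_lt_of_le hkj with rfl | h
      · exact Or.inr ⟨1, one_mem _, by simp⟩
      · exact Or.inl (gen_mem_high h hj)
    · exact Or.inl (cen_mem_high ha)
  | one => exact Or.inl (one_mem _)
  | mul a b _ _ iha ihb =>
    rcases iha with ha | ⟨a', ha, rfl⟩ <;> rcases ihb with hb | ⟨b', hb, rfl⟩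
    · exact Or.inl (mul_mem ha hb)
    · obtain ⟨a', ha', e⟩ := past hs hC hrel hk ha
      exact Or.inr ⟨a' * b', mul_mem ha' hb, by rw [← mul_assoc, e, mul_assoc]⟩
    · exact Or.inr ⟨a' * b, mul_mem ha hb, by rw [mul_assoc]⟩
    · obtain ⟨a'', ha'', e⟩ := past hs hC hrel hk ha
      obtain ⟨w, hw, hb'⟩ := (Data.shape hs hk).1
      have hsq : X k * X k ∈ high D X C (k + 1) := by
        have : X k * X k = evalWord X w * ((evalWord X w)⁻¹ * evalWord X [k, k]) := by
          simp [evalWord]
        rw [this]
        exact mul_mem (word_mem_high fun b hb'' => hb' b hb'') (cen_mem_high (hrel _ _ hw))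
      refine Or.inl ?_
      rw [show X k * a' * (X k * b') = X k * (a' * X k) * b' by simp only [mul_assoc], e,
        ← mul_assoc (X k) (X k), mul_assoc (X k * X k)]
      exact mul_mem hsq (mul_mem ha'' hb)

theorem normal_form : ∀ (d k : ℕ), D.n = k + d → ∀ e ∈ high D X C k,
    ∃ u, D.Norm k u ∧ ∃ c ∈ C, e = evalWord X u * c
  | 0, k, hd, e, he => by
    refine ⟨[], ⟨List.Pairwise.nil, by simp⟩, e, ?_, by simp [evalWord]⟩
    have : high D X C k ≤ C.toSubmonoid := (Submonoid.closure_le).mpr fun a ha => by
      rcases ha with ⟨j, h1, h2, rfl⟩ | ha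
      · omega
      · exact ha
    exact this he
  | d + 1, k, hd, e, he => by
    have ih := normal_form d (k + 1) (by omega)
    rcases split_high hs hC hrel (k := k) (by omega) he with he' | ⟨m, hm, rfl⟩
    · obtain ⟨u, ⟨hu1, hu2⟩, h⟩ := ih e he'
      exact ⟨u, ⟨hu1, fun b hb => ⟨by have := (hu2 b hb).1; omega, (hu2 b hb).2⟩⟩, h⟩
    · obtain ⟨u, ⟨hu1, hu2⟩, c, hc, rfl⟩ := ih m hm
      refine ⟨k :: u, ⟨List.pairwise_cons.mpr ⟨fun b hb => (hu2 b hb).1, hu1⟩, ?_⟩, c, hc,
        by simp [evalWord, mul_assoc]⟩
      intro b hb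
      rcases List.mem_cons.mp hb with rfl | hb
      · exact ⟨le_rfl, by omega⟩
      · exact ⟨by have := (hu2 b hb).1; omega, (hu2 b hb).2⟩

omit hC in
theorem closure_le_high :
    ∀ e ∈ Subgroup.closure ({e | ∃ j, j < D.n ∧ e = X j} ∪ (C : Set E)), e ∈ high D X C 0 := by
  have hinv : ∀ d j, D.n = j + d → j < D.n → (X j)⁻¹ ∈ high D X C 0 := by
    intro d
    induction d using Nat.strong_induction_on with
    | _ d ih =>
      intro j hd hj
      obtain ⟨w, hw, hb⟩ := (Data.shape hs hj).1
      have hwi : ∀ v : List ℕ, (∀ b ∈ v, j < b ∧ b < D.n) → (evalWord X v)⁻¹ ∈ high D X C 0 := by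
        intro v
        induction v with
        | nil => intro _; simp [evalWord]
        | cons b v ihv =>
          intro hv
          have hb1 := hv b (by simp)
          rw [show evalWord X (b :: v) = X b * evalWord X v from rfl, mul_inv_rev]
          exact mul_mem (ihv fun a ha => hv a (List.mem_cons_of_mem _ ha))
            (ih (D.n - b) (by omega) b (by omega) hb1.2)
      have e : (X j)⁻¹ = X j * ((evalWord X [j, j])⁻¹ * evalWord X w) * (evalWord X w)⁻¹ := by
        simp [evalWord, mul_assoc]
      rw [e]
      refine mul_mem (mul_mem (gen_mem_high (Nat.zero_le _) hj) (cen_mem_high ?_)) (hwi w hb)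
      simpa using inv_mem (hrel _ _ hw)
  intro e he
  suffices e ∈ high D X C 0 ∧ e⁻¹ ∈ high D X C 0 from this.1
  induction he using Subgroup.closure_induction with
  | mem a ha =>
    rcases ha with ⟨j, hj, rfl⟩ | ha
    · exact ⟨gen_mem_high (Nat.zero_le _) hj, hinv (D.n - j) j (by omega) hj⟩
    · exact ⟨cen_mem_high ha, cen_mem_high (inv_mem ha)⟩
  | one => exact ⟨one_mem _, by simp⟩
  | mul a b _ _ iha ihb => exact ⟨mul_mem iha.1 ihb.1, by rw [mul_inv_rev]; exact mul_mem ihb.2 iha.2⟩
  | inv a _ iha => exact ⟨iha.2, by simpa using iha.1⟩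

end Monoid

end Cfsg.Agent.SylowTail
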