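import Cfsg.Agent.SylowTail.Bound

/-!
# Soundness of the certificate
-/

set_option autoImplicit false

namespace Cfsg.Agent.SylowTail

open Cfsg.Agent.CosetEnum
open scoped commutatorElement

variable {G : Type} [Group G]

/-- The subgroup generated by the generators. -/
def sub (D : Data) (a : ℕ → G) : Subgroup G := Subgroup.closure {g | ∃ j, j < D.n ∧ g = a j}

/-- The hypotheses on the group: relations, fusion, and independence of the generators. -/
structure Holds (D : Data) (a g : ℕ → G) : Prop where
  rels : ∀ (k : ℕ) (r : List ℕ × List ℕ), D.rels[k]? = some r → evalWord a r.1 = evalWord a r.2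
  fused : ∀ (k : ℕ) (p : ℕ × List ℕ × List ℕ), D.pairs[k]? = some p →
    evalWord a p.2.1 * g p.1 = g p.1 * evalWord a p.2.2
  indep : ∀ u, D.Norm 0 u → evalWord a u = 1 → u = []

theorem isZero_dot {K : Type} [CommGroup K] (h4 : ∀ z : K, z ^ 4 = 1) :
    ∀ (v : List ℕ) (Z : List K), Data.isZero v = true → dot v Z = 1
  | [], Z, _ => by simp [dot]
  | x :: v, [], _ => by simp [dot]
  | x :: v, z :: Z, h => by
    simp only [Data.isZero, List.all_cons, Bool.and_eq_true, beq_iff_eq] at h
    simp only [dot, ← pow_mod4 (h4 z) x, h.1, pow_zero, one_mul]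
    exact isZero_dot h4 v Z h.2

theorem map_evalWord {H : Type} [Group H] (f : G →* H) (x : ℕ → G) :
    ∀ w : List ℕ, f (evalWord x w) = evalWord (fun i => f (x i)) w
  | [] => map_one f
  | l :: w => by
    show f (x l * evalWord x w) = f (x l) * evalWord (fun i => f (x i)) w
    rw [map_mul, map_evalWord f x w]

theorem snd_count (n : ℕ) : ∀ (w : List ℕ) (q : Fin n),
    Multiplicative.toAdd (evalWord
      (fun i => Multiplicative.ofAdd fun q : Fin n => if i = q.val then (1 : ℤ) else 0) w) q
      = (w.count q.val : ℤ)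
  | [], q => by simp [evalWord]
  | l :: w, q => by
    rw [evalWord, toAdd_mul, Pi.add_apply, snd_count n w q, toAdd_ofAdd, List.count_cons]
    by_cases h : l = q.val <;> simp [h, add_comm]

set_option maxHeartbeats 1000000 in
/-- The certificate leaves at most two elements of the kernel in the derived subgroup. -/
theorem Data.ker_inf {D : Data} (hok : D.OK) {a g : ℕ → G} (H : Holds D a g) {Γ : Type}
    [Group Γ] (σ : Γ →* G) (hσ : Function.Surjective σ) (hc : σ.ker ≤ Subgroup.center Γ)
    (h4 : ∀ k ∈ σ.ker, k ^ 4 = 1) :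
    ∃ y : Γ, y ∈ σ.ker ∧ y ^ 2 = 1 ∧
      σ.ker ⊓ ⁅(sub D a).comap σ, (sub D a).comap σ⁆ ≤ Subgroup.zpowers y := by
  classical
  obtain ⟨hshape, hden, hyOK, hzOK, hjOK⟩ := hok
  choose x hx using fun i => hσ (a i)
  choose t ht using fun i => hσ (g i)
  have hcen : ∀ k ∈ σ.ker, ∀ y : Γ, Commute k y := fun k hk y =>
    (Subgroup.mem_center_iff.mp (hc hk) y).symm
  letI : CommGroup σ.ker :=
    { (inferInstance : Group σ.ker) with
      mul_comm := fun u v => Subtype.ext (hcen u u.2 v).eq }
  have h4' : ∀ z : σ.ker, z ^ 4 = 1 := fun z => Subtype.ext (h4 z z.2)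
  set ι : σ.ker →* Γ := σ.ker.subtype with hι
  have hιc : ∀ (k : σ.ker) (y : Γ), Commute (ι k) y := fun k y => hcen k k.2 y
  have hev : ∀ w, σ (evalWord x w) = evalWord a w := fun w => by
    rw [map_evalWord σ x w, funext hx]
  -- the unknowns
  let z : ℕ → σ.ker := fun k =>
    if h : (evalWord x (D.rels.getD k ([], [])).2)⁻¹ * evalWord x (D.rels.getD k ([], [])).1 ∈ σ.ker
      then ⟨_, h⟩ else 1
  let c : ℕ → σ.ker := fun k =>
    if h : (evalWord x (D.pair k).2.2)⁻¹ *
        ((t (D.pair k).1)⁻¹ * evalWord x (D.pair k).2.1 * t (D.pair k).1) ∈ σ.ker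
      then ⟨_, h⟩ else 1
  let Z : List σ.ker := (List.range D.nv).map fun k => if k < D.nr then z k else c (k - D.nr)
  have hZget : ∀ k, k < D.nv → Z.getD k 1 = if k < D.nr then z k else c (k - D.nr) := fun k hk => by
    rw [List.getD_eq_getElem _ _ (by simpa [Z] using hk)]
    simp [Z]
  have hzspec : ∀ (k : ℕ) (r : List ℕ × List ℕ), D.rels[k]? = some r →
      evalWord x r.1 = evalWord x r.2 * ι (Z.getD k 1) := by
    intro k r hr
    have hk : k < D.nr := (List.getElem?_eq_some_iff.mp hr).1
    rw [hZget k (by unfold Data.nv; omega), if_pos hk]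
    have hmem : (evalWord x (D.rels.getD k ([], [])).2)⁻¹ *
        evalWord x (D.rels.getD k ([], [])).1 ∈ σ.ker := by
      rw [MonoidHom.mem_ker, map_mul, map_inv, hev, hev, List.getD_eq_getElem?_getD, hr]
      simp [H.rels k r hr]
    simp only [z, dif_pos hmem, hι, Subgroup.coe_subtype]
    rw [List.getD_eq_getElem?_getD, hr]
    simp
  have hcspec : ∀ k, k < D.pairs.length →
      (t (D.pair k).1)⁻¹ * evalWord x (D.pair k).2.1 * t (D.pair k).1
        = evalWord x (D.pair k).2.2 * ι (Z.getD (D.nr + k) 1) := by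
    intro k hk
    rw [hZget _ (by unfold Data.nv; omega), if_neg (by omega), show D.nr + k - D.nr = k by omega]
    have hmem : (evalWord x (D.pair k).2.2)⁻¹ *
        ((t (D.pair k).1)⁻¹ * evalWord x (D.pair k).2.1 * t (D.pair k).1) ∈ σ.ker := by
      have h := H.fused k (D.pair k)
        (by rw [Data.pair, List.getD_eq_getElem _ _ hk, List.getElem?_eq_getElem hk])
      rw [MonoidHom.mem_ker, map_mul, map_mul, map_mul, map_inv, map_inv, hev, hev, ht]
      rw [mul_assoc (g _)⁻¹, h, inv_mul_cancel_left, inv_mul_cancel]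
    simp only [c, dif_pos hmem, hι, Subgroup.coe_subtype]
    rw [mul_inv_cancel_left]
  -- the equations hold
  have hsound : ∀ side w e u, D.col side w = some (e, u) →
      evalWord x w = evalWord x e * ι (dot u Z) := by
    intro side w e u h
    have h' := collect_sound ι hιc x D.rels D.rix side Z h4' hzspec D.fuel w [] e u h
    simpa [dot] using h'
  have hcntW : ∀ (f : ℕ) (W : List ℕ), (∀ k ∈ W, k < D.pairs.length ∧ (D.pair k).1 = f) →
      (t f)⁻¹ * evalWord x (W.flatMap fun k => (D.pair k).2.1) * t f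
        = evalWord x (W.flatMap fun k => (D.pair k).2.2) * ι (dot (D.cnt W) Z) := by
    intro f W
    induction W with
    | nil => intro _; simp [evalWord, Data.cnt, dot]
    | cons k W ih =>
      intro hW
      obtain ⟨hk, hkf⟩ := hW k (by simp)
      have ih' := ih fun j hj => hW j (List.mem_cons_of_mem _ hj)
      have hk' := hcspec k hk
      rw [hkf] at hk'
      rw [List.flatMap_cons, List.flatMap_cons, evalWord_append, evalWord_append,
        show D.cnt (k :: W) = bump (D.nr + k) (D.cnt W) from rfl, dot_bump h4', map_mul]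
      calc (t f)⁻¹ * (evalWord x (D.pair k).2.1 *
            evalWord x (W.flatMap fun k => (D.pair k).2.1)) * t f
          = ((t f)⁻¹ * evalWord x (D.pair k).2.1 * t f) *
            ((t f)⁻¹ * evalWord x (W.flatMap fun k => (D.pair k).2.1) * t f) := by group
        _ = _ := by
            rw [hk', ih', mul_assoc (evalWord x (D.pair k).2.2), ← mul_assoc (ι _) (evalWord x _),
              (hιc (Z.getD (D.nr + k) 1) _).eq]
            simp only [mul_assoc]
            rw [(hιc (Z.getD (D.nr + k) 1) _).eq]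
  have heq : ∀ q : Eqn, dot (D.eqVec q) Z = 1 := by
    have inv3 : ∀ u : σ.ker, u ^ 3 = u⁻¹ := fun u =>
      eq_inv_of_mul_eq_one_left (by rw [← pow_succ]; exact h4' u)
    rintro (w | ⟨W1, W2⟩)
    · simp only [Data.eqVec]
      split
      · rename_i e u f v h1 h2
        split
        · rename_i hef
          subst hef
          rw [dot_addv h4', dot_smul h4', inv3, mul_inv_eq_one]
          exact Subtype.ext (mul_left_cancel ((hsound _ _ _ _ h1).symm.trans (hsound _ _ _ _ h2)))
        · simp [dot]
      · simp [dot]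
    · simp only [Data.eqVec]
      split
      · rename_i hall
        split
        · rename_i e1 t1 e2 t2 f1 s1 f2 s2 h1 h2 h3 h5
          split
          · rename_i hef
            simp only [Bool.and_eq_true, decide_eq_true_eq] at hef
            obtain ⟨rfl, rfl⟩ := hef
            simp only [List.all_eq_true, Bool.and_eq_true, Nat.blt_eq, beq_iff_eq] at hall
            set f := (D.pair ((W1 ++ W2).headD 0)).1
            have k1 := hcntW f W1 fun k hk => hall k (List.mem_append_left _ hk)
            have k2 := hcntW f W2 fun k hk => hall k (List.mem_append_right _ hk)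
            rw [hsound _ _ _ _ h1, hsound _ _ _ _ h3] at k1
            rw [hsound _ _ _ _ h2, hsound _ _ _ _ h5] at k2
            -- strip the tails of the sources
            have key : ∀ (A B : Γ) (p q r : σ.ker),
                (t f)⁻¹ * (A * ι p) * t f = B * ι q * ι r →
                B⁻¹ * ((t f)⁻¹ * A * t f) = ι (q * r * p⁻¹) := by
              intro A B p q r h
              have h' : (t f)⁻¹ * A * t f * ι p = B * ι q * ι r := by
                rw [← h]
                simp only [mul_assoc, (hιc p (t f)).eq]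
              calc B⁻¹ * ((t f)⁻¹ * A * t f)
                  = B⁻¹ * ((t f)⁻¹ * A * t f * ι p) * (ι p)⁻¹ := by group
                _ = ι (q * r * p⁻¹) := by rw [h', map_mul, map_mul, map_inv]; group
            simp only [dot_addv h4', dot_smul h4', inv3]
            rw [mul_inv_eq_one]
            exact Subtype.ext ((key _ _ _ _ _ k1).symm.trans (key _ _ _ _ _ k2))
          · simp [dot]
        · simp [dot]
      · simp [dot]
  have hcomb : ∀ cs, dot (Data.comb (D.eqns.map D.eqVec) cs) Z = 1 := by
    intro cs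
    induction cs with
    | nil => simp [Data.comb, dot]
    | cons p cs ih =>
      show dot (addv (smul p.2 _) (Data.comb (D.eqns.map D.eqVec) cs)) Z = 1
      rw [dot_addv h4', dot_smul h4', ih, mul_one]
      have : dot ((D.eqns.map D.eqVec).getD p.1 []) Z = 1 := by
        rw [List.getD_eq_getElem?_getD, List.getElem?_map]
        cases D.eqns[p.1]? with
        | none => simp [dot]
        | some q => exact heq q
      rw [this, one_pow]
  -- the generator and the free part
  let Y : σ.ker := dot D.yv Z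
  let w : ℕ → σ.ker := fun l => dot (D.wv.getD l []) Z
  have hy2 : Y ^ 2 = 1 := by
    have := isZero_dot h4' _ Z hyOK
    rwa [dot_addv h4', dot_smul h4', dot_smul h4', hcomb, one_pow, mul_one] at this
  have hz : ∀ r, r < D.nr → z r = Y ^ (D.mv.getD r 0 : ℤ) *
      ∏ l : Fin D.n, w l ^ (D.umat.getD r []).getD l.val 0 := by
    intro r hr
    have h := isZero_dot h4' _ Z (hzOK r hr)
    have hfree : dot (D.freePart r) Z = ∏ l : Fin D.n, w l ^ (D.umat.getD r []).getD l.val 0 := by
      rw [Data.freePart, ← List.map_coe_finRange_eq_range, List.foldr_map, Fin.prod_univ_def]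
      induction List.finRange D.n with
      | nil => simp [dot]
      | cons l ls ih =>
        rw [List.foldr_cons, List.map_cons, List.prod_cons, dot_addv h4', dot_smul h4', ih]
        congr 1
        show w l ^ _ = _
        conv_rhs => rw [← Int.mul_ediv_add_emod ((D.umat.getD r []).getD l.val 0) 4, zpow_add,
          zpow_mul, show (4 : ℤ) = ((4 : ℕ) : ℤ) from rfl, zpow_natCast, h4', one_zpow, one_mul]
        rw [← zpow_natCast, Int.toNat_of_nonneg (Int.emod_nonneg _ (by norm_num))]
        rfl
    have hu : dot (Data.unit r) Z = z r := by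
      rw [Data.unit, dot_bump h4', hZget r (by unfold Data.nv; omega), if_pos hr]
      simp [dot]
    rw [dot_addv h4', dot_smul h4', hcomb, one_pow, mul_one, dot_addv h4', dot_smul h4',
      dot_addv h4', dot_smul h4', hu, hfree] at h
    rw [← inv_inj, zpow_natCast]
    refine inv_eq_of_mul_eq_one_right ?_
    rw [← h]
    congr 1
    exact (eq_inv_of_mul_eq_one_left (by rw [← pow_succ]; exact h4' _)).symm
  -- the auxiliary group
  let X : ℕ → Γ × Multiplicative (Fin D.n → ℤ) := fun i =>
    (x i, Multiplicative.ofAdd fun q : Fin D.n => if i = q.val then (1 : ℤ) else 0)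
  let T : ℕ → Γ × Multiplicative (Fin D.n → ℤ) := fun k =>
    (ι (z k), Multiplicative.ofAdd fun q : Fin D.n => D.expSum k q)
  let C : Subgroup (Γ × Multiplicative (Fin D.n → ℤ)) :=
    Subgroup.closure {e | ∃ k, k < D.nr ∧ e = T k}
  have hXfst : ∀ v, (evalWord X v).1 = evalWord x v := fun v =>
    map_evalWord (MonoidHom.fst Γ (Multiplicative (Fin D.n → ℤ))) X v
  have hXsnd : ∀ v (q : Fin D.n),
      Multiplicative.toAdd (evalWord X v).2 q = (v.count q.val : ℤ) := fun v q => by
    have := map_evalWord (MonoidHom.snd Γ (Multiplicative (Fin D.n → ℤ))) X v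
    simp only [MonoidHom.coe_snd] at this
    rw [this]
    exact snd_count D.n v q
  have hCc : ∀ e ∈ C, ∀ e', Commute e e' := by
    intro e he e'
    induction he using Subgroup.closure_induction with
    | mem b hb =>
      obtain ⟨k, -, rfl⟩ := hb
      exact Prod.ext (hιc (z k) e'.1).eq (mul_comm _ _)
    | one => exact Commute.one_left _
    | mul b b' _ _ ih ih' => exact ih.mul_left ih'
    | inv b _ ih => exact ih.inv_left
  have hrel : ∀ (k : ℕ) (r : List ℕ × List ℕ), D.rels[k]? = some r →
      (evalWord X r.2)⁻¹ * evalWord X r.1 ∈ C := by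
    intro k r hr
    have hk : k < D.nr := (List.getElem?_eq_some_iff.mp hr).1
    refine Subgroup.subset_closure ⟨k, hk, Prod.ext ?_ ?_⟩
    · show (evalWord X r.2).1⁻¹ * (evalWord X r.1).1 = ι (z k)
      rw [hXfst, hXfst, hzspec k r hr, inv_mul_cancel_left, hZget k (by unfold Data.nv; omega),
        if_pos hk]
    · apply Multiplicative.toAdd.injective
      funext q
      show Multiplicative.toAdd ((evalWord X r.2).2⁻¹ * (evalWord X r.1).2) q = D.expSum k q
      rw [toAdd_mul, toAdd_inv, Pi.add_apply, Pi.neg_apply, hXsnd, hXsnd, Data.expSum,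
        List.getD_eq_getElem?_getD, hr]
      simp
      ring
  let E0 : Subgroup (Γ × Multiplicative (Fin D.n → ℤ)) :=
    Subgroup.closure ({e | ∃ j, j < D.n ∧ e = X j} ∪ (C : Set _))
  -- the invariant on the central part
  have hP : ∀ e ∈ C, ∃ (m : ℤ) (cv : Fin D.n → ℤ),
      (∀ l : Fin D.n, D.den * cv l =
        ∑ q : Fin D.n, Multiplicative.toAdd e.2 q * (D.jmat.getD q.val []).getD l.val 0) ∧
      e.1 = ι (Y ^ m * ∏ l : Fin D.n, w l ^ cv l) := by
    intro e he
    induction he using Subgroup.closure_induction with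
    | mem b hb =>
      obtain ⟨k, hk, rfl⟩ := hb
      refine ⟨D.mv.getD k 0, fun l => (D.umat.getD k []).getD l.val 0, fun l => ?_, ?_⟩
      · have h := hjOK k hk
        simp only [Data.jOK, List.all_eq_true, List.mem_range, decide_eq_true_eq] at h
        rw [← h l.val l.2, ← List.map_coe_finRange_eq_range, List.map_map, Fin.sum_univ_def]
        rfl
      · show ι (z k) = _
        rw [hz k hk]
    | one => exact ⟨0, 0, fun l => by simp, by simp⟩
    | mul b b' _ _ ih ih' =>
      obtain ⟨m, cv, h1, h2⟩ := ih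
      obtain ⟨m', cv', h1', h2'⟩ := ih'
      refine ⟨m + m', cv + cv', fun l => ?_, ?_⟩
      · rw [Pi.add_apply, mul_add, h1, h1', ← Finset.sum_add_distrib]
        refine Finset.sum_congr rfl fun q _ => ?_
        rw [Prod.snd_mul, toAdd_mul, Pi.add_apply, add_mul]
      · rw [Prod.fst_mul, h2, h2', ← map_mul]
        congr 1
        simp only [Pi.add_apply, zpow_add, Finset.prod_mul_distrib]
        exact mul_mul_mul_comm _ _ _ _
    | inv b _ ih =>
      obtain ⟨m, cv, h1, h2⟩ := ih
      refine ⟨-m, -cv, fun l => ?_, ?_⟩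
      · simp [h1]
      · rw [Prod.fst_inv, h2, ← map_inv]
        congr 1
        simp only [mul_inv, Pi.neg_apply, zpow_neg, Finset.prod_inv_distrib]
  refine ⟨ι Y, Y.2, by rw [← map_pow, hy2, map_one], ?_⟩
  rintro k ⟨hk, hk'⟩
  -- every lift comes from the auxiliary group up to the kernel
  have hlift : ∀ v ∈ (sub D a).comap σ, ∃ e ∈ E0, ∃ j ∈ σ.ker, v = e.1 * j := by
    intro v hv
    rw [Subgroup.mem_comap] at hv
    have hle : sub D a ≤ E0.map (σ.comp (MonoidHom.fst Γ _)) := by
      refine (Subgroup.closure_le _).mpr ?_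
      rintro _ ⟨j, hj, rfl⟩
      exact ⟨X j, Subgroup.subset_closure (Or.inl ⟨j, hj, rfl⟩), hx j⟩
    obtain ⟨e, he, he'⟩ := hle hv
    refine ⟨e, he, e.1⁻¹ * v, ?_, by group⟩
    rw [MonoidHom.mem_ker, map_mul, map_inv, inv_mul_eq_one]
    exact he'
  let Der : Subgroup Γ := (E0 ⊓ (MonoidHom.snd Γ (Multiplicative (Fin D.n → ℤ))).ker).map
    (MonoidHom.fst Γ _)
  have hder : ⁅(sub D a).comap σ, (sub D a).comap σ⁆ ≤ Der := by
    rw [Subgroup.commutator_le]
    intro u hu v hv
    obtain ⟨e, he, i, hi, rfl⟩ := hlift u hu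
    obtain ⟨e', he', j, hj, rfl⟩ := hlift v hv
    refine ⟨⁅e, e'⁆, Subgroup.mem_inf.mpr ⟨?_, ?_⟩, ?_⟩
    · rw [commutatorElement_def]
      exact mul_mem (mul_mem (mul_mem he he') (inv_mem he)) (inv_mem he')
    · show (⁅e, e'⁆).2 = 1
      simp [commutatorElement_def, mul_comm]
    · show (⁅e, e'⁆).1 = _
      simp only [commutatorElement_def, Prod.fst_mul, Prod.fst_inv]
      have hi' := hcen i hi
      have hj' := hcen j hj
      rw [mul_inv_rev, mul_inv_rev,
        show e.1 * i * (e'.1 * j) * (i⁻¹ * e.1⁻¹) * (j⁻¹ * e'.1⁻¹)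
          = e.1 * (i * (e'.1 * j) * i⁻¹) * e.1⁻¹ * (j⁻¹ * e'.1⁻¹) by group,
        (hi' _).eq, mul_inv_cancel_right,
        show e.1 * (e'.1 * j) * e.1⁻¹ * (j⁻¹ * e'.1⁻¹)
          = e.1 * e'.1 * (j * e.1⁻¹ * j⁻¹) * e'.1⁻¹ by group,
        (hj' _).eq, mul_inv_cancel_right]
  obtain ⟨e, ⟨heE, he2⟩, rfl⟩ := hder hk'
  obtain ⟨u, hu, cc, hcc, rfl⟩ := normal_form (X := X) (C := C) hshape hCc hrel D.n 0 (by omega) e
    (closure_le_high (X := X) (C := C) hshape hrel e heE)
  have hσcc : ∀ b ∈ C, σ b.1 = 1 := fun b hb => by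
    obtain ⟨m, cv, -, h⟩ := hP b hb
    rw [h]
    exact (Y ^ m * ∏ l : Fin D.n, w l ^ cv l).2
  have hu0 : u = [] := by
    refine H.indep u hu ?_
    have h : σ ((evalWord X u * cc).1) = 1 := hk
    rw [Prod.fst_mul, map_mul, hσcc cc hcc, mul_one, hXfst, hev] at h
    exact h
  subst hu0
  obtain ⟨m, cv, hcv, hfst⟩ := hP cc hcc
  have hcv0 : ∀ l, cv l = 0 := by
    intro l
    have h2 : cc.2 = 1 := by
      change (evalWord X [] * cc).2 = 1 at he2
      simpa [evalWord] using he2
    have h := hcv l
    rw [h2] at h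
    simp only [toAdd_one, Pi.zero_apply, zero_mul, Finset.sum_const_zero] at h
    exact (mul_eq_zero.mp h).resolve_left hden
  refine ⟨m, ?_⟩
  show ι Y ^ m = (evalWord X [] * cc).1
  simp [evalWord, hfst, hcv0, map_zpow]

end Cfsg.Agent.SylowTail
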